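import Groth.Agent.ASp.QCPoint
import Groth.Agent.ASp.FieldMono
import Groth.Agent.ASp.Basic
import Groth.Agent.ASp.Decent
import Groth.Agent.QFinLib
import Groth.Agent.S9734
import Groth.Agent.S9938

set_option autoImplicit false
set_option backward.isDefEq.respectTransparency false

universe u

open CategoryTheory CategoryTheory.Limits AlgebraicGeometry Opposite
open AlgSp

namespace Groth.Agent.UInjEt

variable {S : Scheme.{u}}

open _root_.AlgSp Groth.Agent.ASp

/-- A nonempty fibre of a morphism locally of finite type contains a point with finite residue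
extension. -/
theorem exists_finite_residueFieldMap {X Y : Scheme.{u}} (f : X ⟶ Y) [LocallyOfFiniteType f] (x₀ : X) :
    ∃ x : X, f x = f x₀ ∧ (f.residueFieldMap x).hom.Finite := by
  have key : ∀ (y : Y) (z : ↑(f.fiber y)), IsClosed ({z} : Set ↑(f.fiber y)) →
      ∃ x : X, f x = y ∧ (f.residueFieldMap x).hom.Finite := by
    intro y z hz
    refine ⟨f.fiberι y z, ?_, ?_⟩
    · have : f.fiberι y z ∈ Set.range (f.fiberι y) := ⟨z, rfl⟩
      rwa [f.range_fiberι] at this
    · have hy : f (f.fiberι y z) = y := by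
        have : f.fiberι y z ∈ Set.range (f.fiberι y) := ⟨z, rfl⟩
        rwa [f.range_fiberι] at this
      generalize hx : f.fiberι y z = x at hy
      subst hy
      have hzx : z = f.asFiber x :=
        (f.fiberι (f x)).isEmbedding.injective (hx.trans (f.fiberι_asFiber x).symm)
      subst hzx
      exact (Groth.Agent.QFinLib.isClosed_asFiber_iff f x).1 hz
  have : LocallyOfFiniteType (f.fiberToSpecResidueField (f x₀)) :=
    MorphismProperty.pullback_snd _ _ inferInstance
  have : JacobsonSpace ↑(f.fiber (f x₀)) :=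
    LocallyOfFiniteType.jacobsonSpace (f.fiberToSpecResidueField (f x₀))
  obtain ⟨z, -, hz⟩ := nonempty_inter_closedPoints (X := ↑(f.fiber (f x₀))) (Z := Set.univ)
    ⟨f.asFiber x₀, trivial⟩ isClosed_univ.isLocallyClosed
  exact key _ z hz

/-- Two maps out of field spectra with the same point agree on a common extension, lying over the
residue field of the point. -/
theorem exists_ext_of_ofPt_eq {X : Sp S} {K : Type u} [Field K] {str : Spec (CommRingCat.of K) ⟶ S}
    (g : (yon S).obj (Over.mk str) ⟶ X) {T : Over S} (h : (yon S).obj T ⟶ X) (t : ↥T.left)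
    (e : Points.ofPt g (IsLocalRing.closedPoint K) = Points.ofPt h t) :
    ∃ (Ω : Type u) (_ : Field Ω) (w : Spec (CommRingCat.of Ω) ⟶ S) (c : Over.mk w ⟶ Over.mk str)
      (d : Over.mk w ⟶ T) (φ : T.left.residueField t ⟶ CommRingCat.of Ω),
      (yon S).map c ≫ g = (yon S).map d ≫ h ∧ d.left = Spec.map φ ≫ T.left.fromSpecResidueField t := by
  haveI : Subsingleton ↥(Over.mk str).left := inferInstanceAs (Subsingleton ↥(Spec (CommRingCat.of K)))
  obtain ⟨Ω, _, w, c, d, hcd⟩ := exists_common_extension g (FieldPt.ofPt h t) (fun s => by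
    rw [Subsingleton.elim s (IsLocalRing.closedPoint K)]; exact e)
  obtain ⟨φ, hφ⟩ := Spec.map_surjective d.left
  let d' : Over.mk w ⟶ T := d ≫ Over.homMk (T.left.fromSpecResidueField t) rfl
  refine ⟨Ω, inferInstance, w, c, d', φ, ?_, ?_⟩
  · rw [hcd, FieldPt.toHom_ofPt, (yon S).map_comp, Category.assoc]
  · change d.left ≫ T.left.fromSpecResidueField t = _
    rw [← hφ]

theorem closedPoint_map {K : Type u} [Field K] {Ω : Type u} [Field Ω]
    {str : Spec (CommRingCat.of K) ⟶ S} {w : Spec (CommRingCat.of Ω) ⟶ S} (c : Over.mk w ⟶ Over.mk str) :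
    c.left (IsLocalRing.closedPoint Ω) = IsLocalRing.closedPoint K :=
  (inferInstance : Subsingleton ↥(Spec (CommRingCat.of K))).elim _ _

theorem main {X Y : AlgSp.Space S} (f : X ⟶ Y)
    (hft : AlgSp.LocP @LocallyOfFiniteType f.hom)
    (hinj : ∀ (V : AlgSp.Space S) (g : V ⟶ Y), AlgSp.IsEtaleMor g.hom →
      ∀ (P : AlgSp.Sp S) (fst : P ⟶ X.obj) (snd : P ⟶ V.obj), IsPullback fst snd f.hom g.hom →
        Function.Injective (AlgSp.Points.map snd)) :
    AlgSp.IsUnivInjectiveMor f.hom := by
  refine (Groth.Agent.S9938.result f).1.1 ?_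
  intro K _ str a b (hab : a ≫ f.hom = b ≫ f.hom)
  -- reduce to a chart `V` of `Y`
  obtain ⟨V, p, hpe, hps⟩ := Y.property.atlas
  obtain ⟨v₁, hv₁⟩ := surjective_ofPt hps (Points.ofPt (a ≫ f.hom) (IsLocalRing.closedPoint K))
  obtain ⟨Ω₁, _, w₁, c₁, d₁, _, hcd₁, -⟩ := exists_ext_of_ofPt_eq (a ≫ f.hom) p v₁ hv₁.symm
  refine eq_of_field_ext (Ω := Ω₁) X.property c₁ ?_
  have hP : IsAlgSpace (pullback f.hom p) :=
    isAlgSpace_pullback Y.property.diag X.property (IsAlgSpace.yon_obj V) _ _
  let a₂ : (yon S).obj (Over.mk w₁) ⟶ pullback f.hom p :=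
    pullback.lift ((yon S).map c₁ ≫ a) ((yon S).map d₁) (by rw [Category.assoc, hcd₁])
  let b₂ : (yon S).obj (Over.mk w₁) ⟶ pullback f.hom p :=
    pullback.lift ((yon S).map c₁ ≫ b) ((yon S).map d₁) (by rw [Category.assoc, ← hab, hcd₁])
  have hpE : IsEtaleMor p := fun U φ hφ => repWith_comp hφ hpe
  have inj₁ : Function.Injective (Points.map (pullback.snd f.hom p)) :=
    hinj ⟨(yon S).obj V, IsAlgSpace.yon_obj V⟩ (ObjectProperty.homMk p) hpE _ _ _
      (IsPullback.of_hasPullback _ _)
  -- a chart of the fibre product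
  obtain ⟨U, π, hπe, hπs⟩ := hP.atlas
  obtain ⟨h, hh⟩ := (yon S).map_surjective (π ≫ pullback.snd f.hom p)
  haveI : LocallyOfFiniteType h.left := by
    refine hft (π ≫ pullback.fst f.hom p) p h ?_ hpe ?_
    · exact repWith_comp hπe (repWith_of_isPullback (IsPullback.of_hasPullback f.hom p).flip hpe)
    · rw [Category.assoc, pullback.condition, hh, Category.assoc]
  obtain ⟨u₀, hu₀⟩ := surjective_ofPt hπs (Points.ofPt b₂ (IsLocalRing.closedPoint Ω₁))
  have hπh : ∀ u, Points.map (pullback.snd f.hom p) (Points.ofPt π u) = Points.ofScheme V (h.left u) :=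
    fun u => by rw [Points.map_ofPt, ← hh, ← Category.comp_id ((yon S).map h), ofPt_yon_map_comp]
  obtain ⟨u, hu, hufin⟩ := exists_finite_residueFieldMap h.left u₀
  have hub : Points.ofPt π u = Points.ofPt b₂ (IsLocalRing.closedPoint Ω₁) := by
    rw [← hu₀]
    apply inj₁
    rw [hπh, hπh, hu]
  obtain ⟨Ω₂, _, w₂, c₂, σ, φ, hcσ, hσ⟩ := exists_ext_of_ofPt_eq b₂ π u hub.symm
  -- the separable part of the residue extension
  letI : Algebra (V.left.residueField (h.left u)) (U.left.residueField u) :=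
    (h.left.residueFieldMap u).hom.toAlgebra
  haveI : Module.Finite (V.left.residueField (h.left u)) (U.left.residueField u) := hufin
  let k' := separableClosure (V.left.residueField (h.left u)) (U.left.residueField u)
  haveI : IsPurelyInseparable k' (U.left.residueField u) :=
    separableClosure.isPurelyInseparable _ _
  obtain ⟨V', g', v', hv', hg'E, ε⟩ := Groth.Agent.S9734.result V.left (h.left u) k'
  letI : Algebra (V.left.residueField (h.left u)) (V'.residueField v') :=
    ((V.left.residueFieldCongr hv').inv ≫ g'.residueFieldMap v').hom.toAlgebra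
  obtain ⟨ε⟩ := ε
  let ψ : V'.residueField v' ⟶ CommRingCat.of Ω₂ :=
    CommRingCat.ofHom (φ.hom.comp ((algebraMap k' (U.left.residueField u)).comp ε.symm.toRingEquiv.toRingHom))
  have hψ : ((V.left.residueFieldCongr hv').inv ≫ g'.residueFieldMap v') ≫ ψ =
      h.left.residueFieldMap u ≫ φ := by
    ext x
    change φ.hom (algebraMap k' (U.left.residueField u)
      (ε.symm (algebraMap (V.left.residueField (h.left u)) (V'.residueField v') x))) = _
    rw [ε.symm.commutes]
    rfl
  have hσV : σ.left ≫ h.left = (c₂ ≫ d₁).left := by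
    have e := congrArg (· ≫ pullback.snd f.hom p) hcσ
    simp only [Category.assoc, b₂, pullback.lift_snd, ← hh, ← Functor.map_comp] at e
    exact congrArg CommaMorphism.left ((yon S).map_injective e).symm
  let V'o : Over S := Over.mk (g' ≫ V.hom)
  let gO : V'o ⟶ V := Over.homMk g' rfl
  have hjg : (Spec.map ψ ≫ V'.fromSpecResidueField v') ≫ g' = (c₂ ≫ d₁).left := by
    rw [← hσV, hσ, Category.assoc, Category.assoc, ← g'.SpecMap_residueFieldMap_fromSpecResidueField v',
      ← h.left.SpecMap_residueFieldMap_fromSpecResidueField u, ← Spec.map_comp_assoc, ← Spec.map_comp_assoc,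
      ← hψ, Category.assoc, Spec.map_comp (V.left.residueFieldCongr hv').inv]
    simp [Scheme.residueFieldCongr_fromSpecResidueField]
  let j : Over.mk w₂ ⟶ V'o := Over.homMk (Spec.map ψ ≫ V'.fromSpecResidueField v') (by
    change (Spec.map ψ ≫ V'.fromSpecResidueField v') ≫ g' ≫ V.hom = w₂
    rw [← Category.assoc, hjg]
    exact Over.w (c₂ ≫ d₁))
  have hjO : j ≫ gO = c₂ ≫ d₁ := Over.OverMorphism.ext hjg
  -- injectivity after base change to `V'`
  let q : (yon S).obj V'o ⟶ Y.obj := (yon S).map gO ≫ p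
  have hqE : IsEtaleMor q := fun W χ hχ =>
    repWith_comp hχ (repWith_comp (repWith_yon_map (P := @Etale) hg'E) hpe)
  have inj₂ : Function.Injective (Points.map (pullback.snd f.hom q)) :=
    hinj ⟨(yon S).obj V'o, IsAlgSpace.yon_obj V'o⟩ (ObjectProperty.homMk q) hqE _ _ _
      (IsPullback.of_hasPullback _ _)
  let a₃ : (yon S).obj (Over.mk w₂) ⟶ pullback f.hom q :=
    pullback.lift ((yon S).map c₂ ≫ (yon S).map c₁ ≫ a) ((yon S).map j) (by
      simp only [q, Category.assoc, hcd₁]
      simp only [← Functor.map_comp_assoc, hjO])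
  let b₃ : (yon S).obj (Over.mk w₂) ⟶ pullback f.hom q :=
    pullback.lift ((yon S).map c₂ ≫ (yon S).map c₁ ≫ b) ((yon S).map j) (by
      simp only [q, Category.assoc, ← hab, hcd₁]
      simp only [← Functor.map_comp_assoc, hjO])
  have h3 : Points.ofPt a₃ (IsLocalRing.closedPoint Ω₂) = Points.ofPt b₃ (IsLocalRing.closedPoint Ω₂) := by
    apply inj₂
    rw [Points.map_ofPt, Points.map_ofPt, pullback.lift_snd, pullback.lift_snd]
  obtain ⟨Ω₃, _, w₃, e₁, e₂, χ, h12, he₂⟩ := exists_ext_of_ofPt_eq a₃ b₃ _ h3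
  have hj12 : e₁ ≫ j = e₂ ≫ j := by
    have e := congrArg (· ≫ pullback.snd f.hom q) h12
    simp only [Category.assoc, a₃, b₃, pullback.lift_snd, ← Functor.map_comp] at e
    exact (yon S).map_injective e
  obtain ⟨ψ₁, hψ₁⟩ := Spec.map_surjective e₁.left
  obtain ⟨ψ₂, hψ₂⟩ := Spec.map_surjective e₂.left
  have hk : φ ≫ ψ₁ = φ ≫ ψ₂ := by
    have e : ψ ≫ ψ₁ = ψ ≫ ψ₂ := by
      apply Spec.map_injective
      rw [← cancel_mono (V'.fromSpecResidueField v'), Spec.map_comp, Spec.map_comp, Category.assoc,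
        Category.assoc, hψ₁, hψ₂]
      exact congrArg CommaMorphism.left hj12
    apply CommRingCat.hom_ext
    apply IsPurelyInseparable.injective_comp_algebraMap k' (U.left.residueField u) Ω₃
    apply RingHom.ext
    intro x
    obtain ⟨y, rfl⟩ := ε.symm.surjective x
    exact congrArg (fun m => m.hom y) e
  have hσ12 : e₁ ≫ σ = e₂ ≫ σ := by
    apply Over.OverMorphism.ext
    change e₁.left ≫ σ.left = e₂.left ≫ σ.left
    rw [hσ, ← hψ₁, ← hψ₂, ← Spec.map_comp_assoc, ← Spec.map_comp_assoc, hk]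
  refine eq_of_field_ext (Ω := Ω₂) X.property c₂ (eq_of_field_ext (Ω := Ω₃) X.property e₁ ?_)
  have ea := congrArg (· ≫ pullback.fst f.hom q) h12
  simp only [Category.assoc, a₃, b₃, pullback.lift_fst] at ea
  have eb := congrArg (· ≫ pullback.fst f.hom p) hcσ
  simp only [Category.assoc, b₂, pullback.lift_fst] at eb
  calc (yon S).map e₁ ≫ (yon S).map c₂ ≫ (yon S).map c₁ ≫ a
      = (yon S).map e₂ ≫ (yon S).map c₂ ≫ (yon S).map c₁ ≫ b := ea
    _ = (yon S).map (e₂ ≫ σ) ≫ π ≫ pullback.fst f.hom p := by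
        rw [Functor.map_comp, Category.assoc, eb]
    _ = (yon S).map (e₁ ≫ σ) ≫ π ≫ pullback.fst f.hom p := by rw [hσ12]
    _ = (yon S).map e₁ ≫ (yon S).map c₂ ≫ (yon S).map c₁ ≫ b := by
        rw [Functor.map_comp, Category.assoc, eb]

end Groth.Agent.UInjEt
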